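import Mathlib
import Cfsg.Agent.Lib.helper7.BR.Defs

/-!
# Project BRF (Brauer-Reynolds with the arithmetic alternative, S4700): definitions

`G` perfect, `|P| = p` a Sylow subgroup, `|Syl_p G| = 1 + n p`.  Then `G / O_{p'}(G)` is `PSL(2,p)` or
`SL(2,2^m)` (`p = 2^m + 1`), or `FF p n` holds.  `nrm`, `cen` are those of project BR.
-/

set_option autoImplicit false

namespace Cfsg.Agent.Lib.Helper18.BRF

/-- the arithmetic alternative of S4700: `n = (h u p + u^2 + u + h) / (u + 1)` for positive integers `h`, `u`;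
equivalently `(u + 1) (n - u) = h (u p + 1)` -/
def FF (p n : ℕ) : Prop :=
  ∃ h u : ℕ, 0 < h ∧ 0 < u ∧ n * (u + 1) = h * u * p + u ^ 2 + u + h

end Cfsg.Agent.Lib.Helper18.BRF
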